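import Groth.Agent.Lib.NodeDefect14.Torsion
import Groth.Agent.Lib.NodeBlow14.Model
import Mathlib.RingTheory.Etale.Kaehler
import Mathlib.Algebra.MvPolynomial.Derivation
import Mathlib.RingTheory.TensorProduct.Finite

/-!
# The defect of smoothness of a ring map with values in a discrete valuation ring
-/

set_option autoImplicit false
set_option linter.style.haveILetI false
set_option backward.isDefEq.respectTransparency.types false
set_option maxHeartbeats 800000

universe u

open TensorProduct Module IsLocalRing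
open Groth.Agent.NodalEtale14 (Node)
open Groth.Agent.NodeBlow14 (cst crd crd_mul)

noncomputable section

namespace Groth.Agent.NodeDefect14

/-- The defect of smoothness of `A` over `R` along `A → S`. -/
abbrev kdef (R A S : Type u) [CommRing R] [CommRing A] [CommRing S] [Algebra R A] [Algebra A S] : ℕ∞ :=
  tlen S (S ⊗[A] Ω[A⁄R])

/-- Invariance under formally étale maps. -/
theorem kdef_etale (R A A₀ S : Type u) [CommRing R] [CommRing A] [CommRing A₀] [CommRing S] [Algebra R A]
    [Algebra R A₀] [Algebra A A₀] [IsScalarTower R A A₀] [Algebra A S] [Algebra A₀ S] [IsScalarTower A A₀ S]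
    [Algebra.FormallyEtale A A₀] : kdef R A₀ S = kdef R A S :=
  tlen_congr ((AlgebraTensorModule.congr (LinearEquiv.refl S S)
    (KaehlerDifferential.tensorKaehlerEquivOfFormallyEtale R A A₀).symm).trans
    (AlgebraTensorModule.cancelBaseChange A A₀ S S Ω[A⁄R]))

/-- Invariance under change of the base along formally unramified maps. -/
theorem kdef_base (R R' A S : Type u) [CommRing R] [CommRing R'] [CommRing A] [CommRing S] [Algebra R R']
    [Algebra R A] [Algebra R' A] [IsScalarTower R R' A] [Algebra A S] [Algebra.FormallyUnramified R R'] :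
    kdef R' A S = kdef R A S := by
  have hinj : Function.Injective (KaehlerDifferential.map R R' A A) := by
    rw [injective_iff_map_eq_zero]
    intro x hx
    obtain ⟨z, rfl⟩ := (KaehlerDifferential.exact_mapBaseChange_map R R' A x).1 hx
    rw [Subsingleton.elim z 0, map_zero]
  let e := LinearEquiv.ofBijective (KaehlerDifferential.map R R' A A)
    ⟨hinj, KaehlerDifferential.map_surjective R R' A⟩
  exact (tlen_congr (AlgebraTensorModule.congr (LinearEquiv.refl S S) e)).symm

/-- Invariance under unramified flat extensions of the valuation ring. -/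
theorem kdef_target (R A S S₁ : Type u) [CommRing R] [CommRing A] [CommRing S] [CommRing S₁] [Algebra R A]
    [Algebra A S] [Algebra A S₁] [Algebra S S₁] [IsScalarTower A S S₁] [IsDomain S] [IsDiscreteValuationRing S]
    [IsDomain S₁] [IsLocalRing S₁] [Module.Flat S S₁] [IsLocalHom (algebraMap S S₁)]
    (hmax : (maximalIdeal S).map (algebraMap S S₁) = maximalIdeal S₁) [Module.Finite A Ω[A⁄R]] :
    kdef R A S₁ = kdef R A S :=
  (tlen_congr (AlgebraTensorModule.cancelBaseChange A S S₁ S₁ Ω[A⁄R]).symm).trans
    (tlen_baseChange S S₁ hmax _)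

/-- The generators of the differentials of the node model. -/
theorem span_D_crd (R : Type u) [CommRing R] (c : R) :
    Submodule.span (Node R c) (Set.range fun k => KaehlerDifferential.D R (Node R c) (crd c k)) = ⊤ := by
  rw [eq_top_iff, ← KaehlerDifferential.span_range_derivation, Submodule.span_le]
  rintro _ ⟨n, rfl⟩
  obtain ⟨p, rfl⟩ := Ideal.Quotient.mk_surjective n
  induction p using MvPolynomial.induction_on with
  | C r =>
    rw [show Ideal.Quotient.mk _ (MvPolynomial.C r) = algebraMap R (Node R c) r from rfl, Derivation.map_algebraMap]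
    exact zero_mem _
  | add a b ha hb => rw [map_add, map_add]; exact add_mem ha hb
  | mul_X a k ha =>
    rw [map_mul, Derivation.leibniz]
    exact add_mem (Submodule.smul_mem _ _ (Submodule.subset_span ⟨k, rfl⟩)) (Submodule.smul_mem _ _ ha)

set_option maxHeartbeats 2000000 in
/-- The defect of the node model. -/
theorem kdef_node (R : Type u) [CommRing R] (c : R) (S : Type u) [CommRing S] [IsDomain S]
    [IsDiscreteValuationRing S] [Algebra (Node R c) S] :
    kdef R (Node R c) S = content ![algebraMap (Node R c) S (crd c 0), algebraMap (Node R c) S (crd c 1)] := by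
  classical
  let N := Node R c
  let α := algebraMap N S (crd c 0)
  let β := algebraMap N S (crd c 1)
  let w : Fin 2 → S := ![β, α]
  let Q := (Fin 2 → S) ⧸ Submodule.span S {w}
  letI : Algebra R S := ((algebraMap N S).comp (cst c)).toAlgebra
  haveI : IsScalarTower R N S := IsScalarTower.of_algebraMap_eq (R := R) (S := N) (A := S) fun _ => rfl
  letI : Algebra (MvPolynomial (Fin 2) R) S := ((algebraMap N S).comp (Ideal.Quotient.mk _)).toAlgebra
  haveI : IsScalarTower R (MvPolynomial (Fin 2) R) S := IsScalarTower.of_algebraMap_eq fun _ => rfl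
  haveI : IsScalarTower (MvPolynomial (Fin 2) R) N S :=
    IsScalarTower.of_algebraMap_eq (R := MvPolynomial (Fin 2) R) (S := N) (A := S) fun _ => rfl
  let ek : Fin 2 → Q := fun k => Submodule.Quotient.mk (Pi.single k (1 : S))
  let D₀ : Derivation R (MvPolynomial (Fin 2) R) Q := MvPolynomial.mkDerivation R ek
  let I : Ideal (MvPolynomial (Fin 2) R) := Ideal.span {MvPolynomial.X 0 * MvPolynomial.X 1 - MvPolynomial.C c}
  have hsmul : ∀ (p : MvPolynomial (Fin 2) R) (q : Q), p • q = algebraMap N S (Ideal.Quotient.mk I p) • q :=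
    fun p q => (IsScalarTower.algebraMap_smul S p q).symm
  have hI : ∀ p ∈ I, D₀ p = 0 := fun p hp => by
    obtain ⟨m, rfl⟩ := Ideal.mem_span_singleton'.1 hp
    have h1 : Ideal.Quotient.mk I (MvPolynomial.X 0 * MvPolynomial.X 1 - MvPolynomial.C c) = 0 :=
      Ideal.Quotient.eq_zero_iff_mem.2 (Ideal.mem_span_singleton_self _)
    rw [Derivation.leibniz, hsmul _ (D₀ m), h1, map_zero, zero_smul, add_zero]
    have h2 : D₀ (MvPolynomial.X 0 * MvPolynomial.X 1 - MvPolynomial.C c) = 0 := by
      rw [map_sub, Derivation.leibniz, MvPolynomial.mkDerivation_X, MvPolynomial.mkDerivation_X,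
        show D₀ (MvPolynomial.C c) = 0 from MvPolynomial.derivation_C D₀ c, sub_zero, hsmul, hsmul]
      show α • Submodule.Quotient.mk (Pi.single (1 : Fin 2) (1 : S)) +
        β • Submodule.Quotient.mk (Pi.single (0 : Fin 2) (1 : S)) = (0 : Q)
      rw [← Submodule.Quotient.mk_smul, ← Submodule.Quotient.mk_smul, ← Submodule.Quotient.mk_add,
        Submodule.Quotient.mk_eq_zero]
      convert Submodule.mem_span_singleton_self w using 1
      funext i
      fin_cases i <;> simp [w]
    rw [h2, smul_zero]
  let σ : N → MvPolynomial (Fin 2) R := Function.surjInv Ideal.Quotient.mk_surjective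
  have hσ : ∀ p, D₀ (σ (Ideal.Quotient.mk I p)) = D₀ p := fun p => by
    rw [← sub_eq_zero, ← map_sub]
    exact hI _ (Ideal.Quotient.eq.1 (Function.surjInv_eq Ideal.Quotient.mk_surjective (Ideal.Quotient.mk I p)))
  let d₀ : N →ₗ[R] Q :=
    { toFun := fun n => D₀ (σ n)
      map_add' := fun a b => by
        obtain ⟨a, rfl⟩ := Ideal.Quotient.mk_surjective a
        obtain ⟨b, rfl⟩ := Ideal.Quotient.mk_surjective b
        show D₀ (σ (Ideal.Quotient.mk I a + Ideal.Quotient.mk I b)) =
          D₀ (σ (Ideal.Quotient.mk I a)) + D₀ (σ (Ideal.Quotient.mk I b))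
        rw [← map_add (Ideal.Quotient.mk I), hσ, hσ, hσ]
        exact map_add D₀ a b
      map_smul' := fun r a => by
        obtain ⟨a, rfl⟩ := Ideal.Quotient.mk_surjective a
        show D₀ (σ (r • Ideal.Quotient.mk I a)) = r • D₀ (σ (Ideal.Quotient.mk I a))
        rw [show r • Ideal.Quotient.mk I a = Ideal.Quotient.mk I (r • a) from rfl, hσ, hσ, D₀.map_smul] }
  let d : Derivation R N Q := Derivation.mk' d₀ fun a b => by
    obtain ⟨a, rfl⟩ := Ideal.Quotient.mk_surjective a
    obtain ⟨b, rfl⟩ := Ideal.Quotient.mk_surjective b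
    show D₀ (σ (Ideal.Quotient.mk I a * Ideal.Quotient.mk I b)) =
      Ideal.Quotient.mk I a • D₀ (σ (Ideal.Quotient.mk I b)) + Ideal.Quotient.mk I b • D₀ (σ (Ideal.Quotient.mk I a))
    rw [← map_mul, hσ, hσ, hσ, Derivation.leibniz, hsmul, hsmul, IsScalarTower.algebraMap_smul,
      IsScalarTower.algebraMap_smul]
  let Φ : S ⊗[N] Ω[N⁄R] →ₗ[S] Q := LinearMap.liftBaseChange S d.liftKaehlerDifferential
  let g : (Fin 2 → S) →ₗ[S] S ⊗[N] Ω[N⁄R] :=
    Fintype.linearCombination S fun k => (1 : S) ⊗ₜ[N] KaehlerDifferential.D R N (crd c k)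
  have hgsingle : ∀ k, g (Pi.single k 1) = (1 : S) ⊗ₜ[N] KaehlerDifferential.D R N (crd c k) := fun k => by
    rw [Fintype.linearCombination_apply_single, one_smul]
  have hgw : g w = 0 := by
    rw [Fintype.linearCombination_apply, Fin.sum_univ_two]
    show algebraMap N S (crd c 1) • ((1 : S) ⊗ₜ[N] KaehlerDifferential.D R N (crd c 0)) +
      algebraMap N S (crd c 0) • ((1 : S) ⊗ₜ[N] KaehlerDifferential.D R N (crd c 1)) = 0
    rw [IsScalarTower.algebraMap_smul, IsScalarTower.algebraMap_smul, ← TensorProduct.tmul_smul,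
      ← TensorProduct.tmul_smul, ← TensorProduct.tmul_add, add_comm, ← Derivation.leibniz, crd_mul,
      show cst c c = algebraMap R N c from rfl, Derivation.map_algebraMap, TensorProduct.tmul_zero]
  let Ψ : Q →ₗ[S] S ⊗[N] Ω[N⁄R] := Submodule.liftQ _ g
    ((Submodule.span_singleton_le_iff_mem _ _).2 hgw)
  have hΦ : ∀ k, Φ ((1 : S) ⊗ₜ[N] KaehlerDifferential.D R N (crd c k)) = ek k := fun k => by
    rw [LinearMap.liftBaseChange_tmul, one_smul, Derivation.liftKaehlerDifferential_comp_D]
    exact (hσ _).trans (MvPolynomial.mkDerivation_X R ek k)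
  have h1 : Φ.comp Ψ = LinearMap.id := by
    refine Submodule.linearMap_qext _ ((Pi.basisFun S (Fin 2)).ext fun k => ?_)
    show Φ (g (Pi.basisFun S (Fin 2) k)) = Submodule.Quotient.mk (Pi.basisFun S (Fin 2) k)
    rw [Pi.basisFun_apply, hgsingle, hΦ]
  have h2 : Ψ.comp Φ = LinearMap.id := by
    refine LinearMap.ext fun z => ?_
    induction z using TensorProduct.induction_on with
    | zero => rw [map_zero, map_zero]
    | add a b ha hb => rw [map_add, map_add, ha, hb]
    | tmul s t =>
      rw [show s ⊗ₜ[N] t = s • ((1 : S) ⊗ₜ[N] t) by rw [TensorProduct.smul_tmul', smul_eq_mul, mul_one],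
        map_smul, map_smul]
      congr 1
      induction (span_D_crd R c).ge (Submodule.mem_top (x := t)) using Submodule.span_induction with
      | mem x hx =>
        obtain ⟨k, rfl⟩ := hx
        show Ψ (Φ _) = _
        rw [hΦ]
        exact hgsingle k
      | zero => rw [TensorProduct.tmul_zero, map_zero, map_zero]
      | add a b _ _ ha hb => rw [TensorProduct.tmul_add, map_add, map_add, ha, hb]
      | smul r a _ ha =>
        rw [TensorProduct.tmul_smul, ← IsScalarTower.algebraMap_smul S r ((1 : S) ⊗ₜ[N] a), map_smul, map_smul, ha]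
  show tlen S (S ⊗[N] Ω[N⁄R]) = _
  rw [tlen_congr (LinearEquiv.ofLinearMap Φ Ψ h1 h2), tlen_quotient_vector, content_swap]

end Groth.Agent.NodeDefect14
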