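import Groth.Agent.Lib.NodeDefect14.Kaehler
import Groth.Agent.Lib.NodeBlow14.Chart
import Groth.Agent.Lib.NodeBlow14.Main

/-!
# The defect of smoothness on the charts of the blown up node model
-/

set_option autoImplicit false
set_option linter.style.haveILetI false
set_option backward.isDefEq.respectTransparency.types false
set_option maxHeartbeats 800000

universe u

open CategoryTheory AlgebraicGeometry IsLocalRing
open Groth.Agent.NodalEtale14 (Node)
open Groth.Agent.NodeBlow14 (cst crd)

noncomputable section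

namespace Groth.Agent.NodeDefect14

/-- Among three elements of a valuation ring one divides all. -/
theorem exists_dvd_three {S : Type u} [CommRing S] [IsDomain S] [ValuationRing S] {N : Type u} (φ : N → S) (a b c : N) :
    ∃ g ∈ ({a, b, c} : Set N), φ g ∣ φ a ∧ φ g ∣ φ b ∧ φ g ∣ φ c := by
  rcases ValuationRing.dvd_total (φ a) (φ b) with h | h
  · rcases ValuationRing.dvd_total (φ a) (φ c) with h' | h'
    · exact ⟨a, by simp, dvd_rfl, h, h'⟩
    · exact ⟨c, by simp, h', h'.trans h, dvd_rfl⟩
  · rcases ValuationRing.dvd_total (φ b) (φ c) with h' | h'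
    · exact ⟨b, by simp, h, dvd_rfl, h'⟩
    · exact ⟨c, by simp, h'.trans h, h', dvd_rfl⟩

/-- Étale maps transfer regularity to the source. -/
theorem isRegular_of_etale_spec {A B : Type u} [CommRing A] [CommRing B] [IsNoetherianRing A] (ψ : A →+* B)
    (hψ : ψ.Etale) (Q : Spec (CommRingCat.of B))
    (h : IsRegularLocalRing ((Spec (CommRingCat.of A)).presheaf.stalk (Spec.map (CommRingCat.ofHom ψ) Q))) :
    IsRegularLocalRing ((Spec (CommRingCat.of B)).presheaf.stalk Q) := by
  haveI : IsNoetherianRing (CommRingCat.of A : CommRingCat.{u}) := ‹IsNoetherianRing A›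
  haveI : IsLocallyNoetherian (Spec (CommRingCat.of A)) := inferInstance
  haveI : Etale (Spec.map (CommRingCat.ofHom ψ)) := (HasRingHomProperty.Spec_iff (P := @Etale)).2 hψ
  exact (NodeBlow14.isRegular_iff_etale _ Q).1 h

/-- Regularity descends to a point with the same local ring. -/
theorem isRegular_of_away {D : Type u} [CommRing D] [IsNoetherianRing D] (t : D)
    (Q : Spec (CommRingCat.of (Localization.Away t)))
    (h : IsRegularLocalRing ((Spec (CommRingCat.of (Localization.Away t))).presheaf.stalk Q)) :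
    IsRegularLocalRing ((Spec (CommRingCat.of D)).presheaf.stalk
      (Spec.map (CommRingCat.ofHom (algebraMap D (Localization.Away t))) Q)) := by
  haveI : IsNoetherianRing (CommRingCat.of D : CommRingCat.{u}) := ‹IsNoetherianRing D›
  haveI : IsLocallyNoetherian (Spec (CommRingCat.of D)) := inferInstance
  haveI : Etale (Spec.map (CommRingCat.ofHom (algebraMap D (Localization.Away t)))) :=
    (HasRingHomProperty.Spec_iff (P := @Etale)).2
      (RingHom.etale_algebraMap.2 (Algebra.Etale.of_isLocalizationAway t))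
  exact (NodeBlow14.isRegular_iff_etale _ Q).2 h

/-- The defect at a point of a chart étale over a node model. -/
theorem kdef_chart {R D S : Type u} [CommRing R] [CommRing D] [CommRing S] [IsDomain S] [IsDiscreteValuationRing S]
    [Algebra R D] [Algebra D S] {c : R} (t : D) (hu : IsUnit (algebraMap D S t)) (ψ : Node R c →+* Localization.Away t)
    (hψ : ψ.Etale) (hc : ∀ r, ψ (cst c r) = algebraMap D (Localization.Away t) (algebraMap R D r)) :
    kdef R D S = content ![IsLocalization.Away.lift (S := Localization.Away t) t hu (ψ (crd c 0)),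
      IsLocalization.Away.lift (S := Localization.Away t) t hu (ψ (crd c 1))] := by
  let Da := Localization.Away t
  letI : Algebra Da S := (IsLocalization.Away.lift (S := Da) t hu).toAlgebra
  haveI : IsScalarTower D Da S := IsScalarTower.of_algebraMap_eq fun x =>
    (IsLocalization.Away.lift_eq (S := Da) t hu x).symm
  haveI : Algebra.FormallyEtale D Da := Algebra.FormallyEtale.of_isLocalization (Submonoid.powers t)
  letI : Algebra (Node R c) Da := ψ.toAlgebra
  haveI : IsScalarTower R (Node R c) Da := IsScalarTower.of_algebraMap_eq (R := R) (S := Node R c) (A := Da) fun r =>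
    (IsScalarTower.algebraMap_apply R D Da r).trans (hc r).symm
  haveI : Algebra.Etale (Node R c) Da := RingHom.etale_algebraMap.1 hψ
  letI : Algebra (Node R c) S := ((algebraMap Da S).comp ψ).toAlgebra
  haveI : IsScalarTower (Node R c) Da S := IsScalarTower.of_algebraMap_eq fun _ => rfl
  rw [← kdef_etale R D Da S, kdef_etale R (Node R c) Da S, kdef_node]
  rfl

set_option maxHeartbeats 2000000 in
/-- On a chart of the blow-up of `uv = ϖ² h₂`: the point is regular or the defect drops by the order of `ϖ`. -/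
theorem regular_or_kdef_le {R : Type u} [CommRing R] [IsDomain R] [IsDiscreteValuationRing R] {ϖ : R}
    (hϖ : Irreducible ϖ) {h : R} (h₂ : R) (hh : h = ϖ ^ 2 * h₂) (I : Ideal (Node R h))
    (hI : I = Ideal.span {cst h ϖ, crd h 0, crd h 1}) {a : Node R h} (ha : a ∈ I)
    [IsNoetherianRing ↥(BlowUp.affineAlgebra (Node R h) I a)]
    [Algebra R ↥(BlowUp.affineAlgebra (Node R h) I a)]
    [IsScalarTower R (Node R h) ↥(BlowUp.affineAlgebra (Node R h) I a)]
    (S : Type u) [CommRing S] [IsDomain S] [IsDiscreteValuationRing S] [Algebra (Node R h) S]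
    [Algebra ↥(BlowUp.affineAlgebra (Node R h) I a) S]
    [IsScalarTower (Node R h) ↥(BlowUp.affineAlgebra (Node R h) I a) S]
    (h0 : algebraMap (Node R h) S (cst h ϖ) ≠ 0) (h1 : algebraMap (Node R h) S (cst h ϖ) ∈ maximalIdeal S) :
    (∀ q : Spec (CommRingCat.of ↥(BlowUp.affineAlgebra (Node R h) I a)),
      q.asIdeal = (maximalIdeal S).comap (algebraMap ↥(BlowUp.affineAlgebra (Node R h) I a) S) →
        IsRegularLocalRing ((Spec (CommRingCat.of ↥(BlowUp.affineAlgebra (Node R h) I a))).presheaf.stalk q)) ∨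
    kdef R ↥(BlowUp.affineAlgebra (Node R h) I a) S ≤
      kdef R (Node R h) S - Ring.ord S (algebraMap (Node R h) S (cst h ϖ)) := by
  let N := Node R h
  let D := ↥(BlowUp.affineAlgebra N I a)
  let φ := algebraMap N S
  let χ := algebraMap D S
  have hχ : ∀ x, χ (algebraMap N D x) = φ x := fun x => (IsScalarTower.algebraMap_apply N D S x).symm
  obtain ⟨g, hg, hd⟩ := exists_dvd_three φ (cst h ϖ) (crd h 0) (crd h 1)
  have hgI : g ∈ I := hI ▸ Ideal.subset_span hg
  have hg0 : φ g ≠ 0 := fun e => h0 (zero_dvd_iff.1 (e ▸ hd.1))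
  have hdvd : ∀ x ∈ I, φ g ∣ φ x := fun x hx => by
    have hle : I ≤ (Ideal.span {φ g}).comap φ := by
      rw [hI, Ideal.span_le]
      rintro _ (rfl | rfl | rfl)
      exacts [Ideal.mem_span_singleton.2 hd.1, Ideal.mem_span_singleton.2 hd.2.1, Ideal.mem_span_singleton.2 hd.2.2]
    exact Ideal.mem_span_singleton.1 (hle hx)
  obtain ⟨t, ht⟩ := Ideal.mem_span_singleton'.1
    ((BlowUpExist.map_eq_span I a ha).le (Ideal.mem_map_of_mem (algebraMap N D) hgI))
  obtain ⟨e, he⟩ := hdvd a ha
  have hu : IsUnit (χ t) := by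
    have h2 := congrArg χ ht
    rw [map_mul, hχ, hχ, he] at h2
    refine IsUnit.of_mul_eq_one e (mul_right_cancel₀ hg0 ?_)
    linear_combination h2
  let Da := Localization.Away t
  let L : Da →+* S := IsLocalization.Away.lift (S := Da) t hu
  have hDa : ∀ x, L (algebraMap D Da x) = χ x := fun x =>
    IsLocalization.Away.lift_eq (S := Da) t hu x
  obtain ⟨κ, hκ, hκN⟩ := NodeBlow14.exists_away_hom I ha hgI t ht
  have hκ' : ∀ x, κ (algebraMap N _ x) = algebraMap D Da (algebraMap N D x) := RingHom.congr_fun hκN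
  have hRN : ∀ r, algebraMap R D r = algebraMap N D (cst h r) := fun r =>
    IsScalarTower.algebraMap_apply R N D r
  rcases hg with rfl | hg
  · -- the chart of the uniformizer
    refine Or.inr ?_
    obtain ⟨ρ, hρ, hρc, hρk⟩ := NodeBlow14.exists_chart_cst_coord hϖ h₂ hh I hI
    let ψ : Node R h₂ →+* Da := κ.comp ρ
    have hψ : ψ.Etale := RingHom.Etale.stableUnderComposition _ _ (RingHom.Etale.of_bijective hρ) hκ
    rw [kdef_chart (R := R) (D := D) t hu ψ hψ fun r => by
      show κ (ρ (cst h₂ r)) = algebraMap D Da (algebraMap R D r)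
      rw [hρc, hκ', hRN], kdef_node]
    let v' : Fin 2 → S := ![L (ψ (crd h₂ 0)), L (ψ (crd h₂ 1))]
    have hk : ∀ k, φ (cst h ϖ) * L (ψ (crd h₂ k)) = φ (crd h k) := fun k => by
      have h3 := congrArg (fun z => L (κ z)) (hρk k)
      have hL : ∀ x, L (κ (algebraMap N _ x)) = φ x := fun x =>
        ((congrArg L (hκ' x)).trans (hDa _)).trans (hχ x)
      refine (mul_comm _ _).trans ?_
      refine Eq.trans ?_ (h3.trans (hL (crd h k)))
      exact (congrArg (L (κ (ρ (crd h₂ k))) * ·) (hL (cst h ϖ)).symm).trans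
        ((congrArg L (map_mul κ _ _)).trans (map_mul L _ _)).symm
    have hv : (![φ (crd h 0), φ (crd h 1)] : Fin 2 → S) = φ (cst h ϖ) • v' := by
      funext k
      fin_cases k
      · exact (hk 0).symm
      · exact (hk 1).symm
    show content v' ≤ content ![φ (crd h 0), φ (crd h 1)] - Ring.ord S (φ (cst h ϖ))
    by_cases hv' : v' = 0
    · rw [hv', content_zero]; exact zero_le
    rw [hv, content_smul hv' h0]
    obtain ⟨p, hp⟩ := IsDiscreteValuationRing.exists_irreducible S
    obtain ⟨n, u, hn⟩ := IsDiscreteValuationRing.eq_unit_mul_pow_irreducible h0 hp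
    rw [hn, Ring.ord_mul_of_isUnit_left u.isUnit, ord_pow_irreducible hp,
      (ENat.addLECancellable_of_ne_top (ENat.natCast_ne_top n)).add_tsub_cancel_left]
  · -- the chart of a coordinate is regular
    refine Or.inl fun q hq => ?_
    obtain ⟨k, rfl⟩ : ∃ k, g = crd h k := by
      rcases hg with hg | hg
      exacts [⟨0, hg⟩, ⟨1, hg⟩]
    obtain ⟨ρ, hρ, hρc⟩ := NodeBlow14.exists_chart_crd_coord hϖ h₂ hh I hI k
    let ψ : Node R ϖ →+* Da := κ.comp ρ
    have hψ : ψ.Etale := RingHom.Etale.stableUnderComposition _ _ (RingHom.Etale.of_bijective hρ) hκ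
    let Q : Spec (CommRingCat.of Da) := ⟨(maximalIdeal S).comap L, Ideal.comap_isPrime _ _⟩
    have hQ : Spec.map (CommRingCat.ofHom (algebraMap D Da)) Q = q := by
      refine PrimeSpectrum.ext ?_
      show ((maximalIdeal S).comap L).comap (algebraMap D Da) = q.asIdeal
      rw [hq, Ideal.comap_comap]
      congr 1
      exact RingHom.ext hDa
    rw [← hQ]
    refine isRegular_of_away t Q (isRegular_of_etale_spec ψ hψ Q ?_)
    let z : Spec (CommRingCat.of (Node R ϖ)) := Spec.map (CommRingCat.ofHom ψ) Q
    haveI : z.asIdeal.IsPrime := z.2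
    refine NodeBlow14.isRegular_stalk_spec z
      (NodeBlow14.isRegularLocalRing_node ϖ z.asIdeal ?_ (Or.inr hϖ))
    have hmem : ϖ ∈ z.asIdeal.comap (cst ϖ) := by
      show L (κ (ρ (cst ϖ ϖ))) ∈ maximalIdeal S
      rw [hρc, hκ', hDa, hχ]
      exact h1
    refine IsLocalRing.eq_maximalIdeal (IsPrime.to_maximal_ideal fun e0 => hϖ.ne_zero ?_)
    rw [e0, Ideal.mem_bot] at hmem
    exact hmem

end Groth.Agent.NodeDefect14
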