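import Groth.Agent.Lib.NodeBlow14.Main

/-!
# The local model of the blow-up of a nodal family at a nonregular point
-/

set_option autoImplicit false
set_option linter.style.haveILetI false
set_option backward.isDefEq.respectTransparency.types false

universe u

open CategoryTheory CategoryTheory.Limits AlgebraicGeometry TopologicalSpace
open Groth.Agent.NodalEtale14 (Node)
open Groth.Agent.NodeBlow14

noncomputable section

namespace Groth.Agent.NodeDefect14

/-- The blow-up is étale locally the blow-up of a node model at the origin. -/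
theorem exists_local_model {R : Type u} [CommRing R] [IsDomain R] [IsDiscreteValuationRing R] {X X' : Scheme.{u}}
    (f : X ⟶ Spec (CommRingCat.of R)) (hf : Curv2.IsNodalFamily f) (x : X)
    (hx : f.base x = IsLocalRing.closedPoint R) (hxc : IsClosed ({x} : Set X))
    (hreg : ¬ IsRegularLocalRing (X.presheaf.stalk x))
    (b : X' ⟶ X) (hb : BlowUp.IsBlowUp b (Scheme.IdealSheafData.vanishingIdeal ⟨{x}, hxc⟩))
    {ϖ : R} (hϖ : Irreducible ϖ) :
    ∃ (R' : Type u) (_ : CommRing R') (_ : IsDomain R') (_ : IsDiscreteValuationRing R') (_ : Algebra R R')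
      (_ : Algebra.Etale R R') (_ : Irreducible (algebraMap R R' ϖ)) (c c₂ : R')
      (_ : c = algebraMap R R' ϖ ^ 2 * c₂) (I : Ideal (Node R' c))
      (_ : I = Ideal.span {cst c (algebraMap R R' ϖ), crd c 0, crd c 1}) (B : Scheme.{u})
      (bN : B ⟶ Spec (CommRingCat.of (Node R' c)))
      (_ : BlowUp.IsBlowUp bN (Scheme.IdealSheafData.ofIdealTop
        (I.map (Scheme.ΓSpecIso (CommRingCat.of (Node R' c))).inv.hom)))
      (_ : IsProper bN)
      (U : Scheme.{u}) (e : U ⟶ X) (_ : Etale e) (g : U ⟶ Spec (CommRingCat.of (Node R' c))) (_ : Etale g)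
      (x₁ : U) (i : pullback e b ≅ pullback g bN),
      e x₁ = x ∧ (g x₁).asIdeal = I ∧
      g ≫ πN c ≫ Spec.map (CommRingCat.ofHom (algebraMap R R')) = e ≫ f ∧
      i.hom ≫ pullback.fst g bN = pullback.fst e b := by
  obtain ⟨R', iR1, iR2, iR3, iR4, iR5, hϖ', hpol, hh, U₀, e₀, he₀, x₀, hx₀, g₀, hg₀, hcomm⟩ := S2227.result R ϖ hϖ X f hf x hx
  obtain ⟨c, rfl, hc⟩ : ∃ c : R', hpol = MvPolynomial.C c ∧ (c = 0 ∨ ∃ n : ℕ, c = algebraMap R R' ϖ ^ n) := by
    rcases hh with rfl | ⟨n, rfl⟩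
    · exact ⟨0, (map_zero _).symm, Or.inl rfl⟩
    · exact ⟨_, rfl, Or.inr ⟨n, rfl⟩⟩
  let g₁ : U₀ ⟶ Spec (CommRingCat.of (Node R' c)) := g₀
  haveI : Etale g₁ := hg₀
  haveI : IsLocallyNoetherian X := by
    haveI : LocallyOfFinitePresentation f := hf.2.1
    exact LocallyOfFiniteType.isLocallyNoetherian f
  let z : Spec (CommRingCat.of (Node R' c)) := g₁ x₀
  let gR : Spec (CommRingCat.of R') ⟶ Spec (CommRingCat.of R) := Spec.map (CommRingCat.ofHom (algebraMap R R'))
  haveI : Etale gR := (HasRingHomProperty.Spec_iff (P := @Etale)).2 (RingHom.etale_algebraMap.2 inferInstance)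
  have hcomm' : g₁ ≫ πN c ≫ gR = e₀ ≫ f := by
    rw [← hcomm]
    show g₀ ≫ _ = g₀ ≫ _
    rw [← Spec.map_comp, ← CommRingCat.ofHom_comp, RingHom.comp_assoc]
  have hPm : z.asIdeal.comap (cst c) = IsLocalRing.maximalIdeal R' := by
    have h : (g₁ ≫ πN c ≫ gR) x₀ = IsLocalRing.closedPoint R := by
      rw [hcomm', Scheme.Hom.comp_apply, hx₀]; exact hx
    have h' : (z.asIdeal.comap (cst c)).comap (algebraMap R R') = IsLocalRing.maximalIdeal R :=
      congrArg PrimeSpectrum.asIdeal h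
    haveI : (z.asIdeal.comap (cst c)).IsPrime := by
      haveI : z.asIdeal.IsPrime := z.2
      exact Ideal.IsPrime.comap _
    refine IsLocalRing.eq_maximalIdeal (IsPrime.to_maximal_ideal (fun e => hϖ'.ne_zero ?_))
    have : ϖ ∈ (z.asIdeal.comap (cst c)).comap (algebraMap R R') := by
      rw [h', hϖ.maximalIdeal_eq]; exact Ideal.mem_span_singleton_self ϖ
    rw [Ideal.mem_comap, e, Ideal.mem_bot] at this
    exact this
  haveI : IsLocallyNoetherian (Spec (CommRingCat.of (Node R' c))) := inferInstance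
  haveI : z.asIdeal.IsPrime := z.2
  have hnr : ¬ IsRegularLocalRing (Localization.AtPrime z.asIdeal) := fun h => hreg (by
    rw [← hx₀, isRegular_iff_etale e₀ x₀, ← isRegular_iff_etale g₁ x₀]
    exact isRegular_stalk_spec z h)
  obtain ⟨⟨c₂, hc₂⟩, hPI, hmax⟩ := nonregular_node hϖ' hc z.asIdeal hPm hnr
  have hzc : IsClosed ({z} : Set (Spec (CommRingCat.of (Node R' c)))) :=
    (PrimeSpectrum.isClosed_singleton_iff_isMaximal z).2 hmax
  -- shrink the neighbourhood
  haveI := HensFib6.locallyQuasiFinite_of_unramified e₀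
  haveI := HensFib6.locallyQuasiFinite_of_unramified g₁
  let T : Set U₀ := ((e₀ ⁻¹' {x}) ∪ (g₁ ⁻¹' {z})) \ {x₀}
  have hT : IsClosed T := by
    have h1 : IsClosed ((e₀ ⁻¹' {x}) \ {x₀}) :=
      isClosed_of_isDiscrete (hxc.preimage e₀.continuous) (e₀.isDiscrete_preimage_singleton x) Set.sdiff_subset
    have h2 : IsClosed ((g₁ ⁻¹' {z}) \ {x₀}) :=
      isClosed_of_isDiscrete (hzc.preimage g₁.continuous) (g₁.isDiscrete_preimage_singleton z) Set.sdiff_subset
    simpa only [T, Set.union_sdiff_distrib] using h1.union h2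
  let U : U₀.Opens := ⟨Tᶜ, hT.isOpen_compl⟩
  let x₁ : U := ⟨x₀, fun h => h.2 rfl⟩
  let e : U.toScheme ⟶ X := U.ι ≫ e₀
  let g : U.toScheme ⟶ Spec (CommRingCat.of (Node R' c)) := U.ι ≫ g₁
  have hfib : (⟨e ⁻¹' {x}, hxc.preimage e.continuous⟩ : Closeds U.toScheme) = ⟨g ⁻¹' {z}, hzc.preimage g.continuous⟩ := by
    refine Closeds.ext (Set.ext fun u => ?_)
    show e₀ u.1 = x ↔ g₁ u.1 = z
    constructor
    · intro h
      by_contra h'
      exact u.2 ⟨Or.inl h, fun e' => h' (congrArg g₁ (Set.mem_singleton_iff.1 e'))⟩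
    · intro h
      by_contra h'
      exact u.2 ⟨Or.inr h, fun e' => h' ((congrArg e₀ (Set.mem_singleton_iff.1 e')).trans hx₀)⟩
  let CN := Scheme.IdealSheafData.vanishingIdeal (X := Spec (CommRingCat.of (Node R' c))) ⟨{z}, hzc⟩
  let bN := BlowUpExist.ChartIdx.blowUpHom CN
  have hbN : BlowUp.IsBlowUp bN CN := BlowUpExist.ChartIdx.isBlowUp_blowUpHom
  haveI : IsProper bN := BlowUpExist.isProper (BlowUpReg6.isFiniteTypeIdeal CN) hbN
  have hC : (Scheme.IdealSheafData.vanishingIdeal (X := X) ⟨{x}, hxc⟩).comap e = CN.comap g := by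
    rw [comap_vanishingIdeal e, comap_vanishingIdeal g]
    exact congrArg _ hfib
  obtain ⟨i, hi⟩ := exists_iso_blowUp (S1680.result e _ b hb)
    (hC ▸ S1680.result g CN bN hbN : BlowUp.IsBlowUp (pullback.fst g bN) _)
  have hI : CN = Scheme.IdealSheafData.ofIdealTop
      (z.asIdeal.map (Scheme.ΓSpecIso (CommRingCat.of (Node R' c))).inv.hom) := vanishingIdeal_singleton z hzc
  haveI : Etale e := inferInstance
  haveI : Etale g := inferInstance
  let j := pullback.snd e b
  haveI : Etale j := MorphismProperty.pullback_snd _ _ inferInstance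
  haveI : Etale (pullback.snd g bN) := MorphismProperty.pullback_snd _ _ inferInstance
  have heq : g ≫ πN c ≫ gR = e ≫ f := by simp only [g, e, Category.assoc, hcomm']
  exact ⟨R', iR1, iR2, iR3, iR4, iR5, hϖ', c, c₂, hc₂, z.asIdeal, hPI, _, bN, (by rw [← hI]; exact hbN),
    inferInstance, _, e, inferInstance, g, inferInstance, x₁, i, hx₀, rfl, heq, hi⟩

end Groth.Agent.NodeDefect14
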