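import Groth.Agent.Lib.NodeDefect14.Omega
import Groth.Agent.Lib.NodeBlow14.Main

/-!
# The defect of smoothness along points with values in local rings
-/

set_option autoImplicit false
set_option linter.style.haveILetI false
set_option backward.isDefEq.respectTransparency false
set_option backward.isDefEq.respectTransparency.types false
set_option maxHeartbeats 800000

universe u

open CategoryTheory AlgebraicGeometry Opposite IsLocalRing

noncomputable section

namespace Groth.Agent.NodeDefect14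

variable {R : Type u} [CommRing R] {Z W T : Scheme.{u}}

theorem baseHom_Spec_map {A : Type u} [CommRing A] (φ : R →+* A) (s : Z ⟶ Spec (CommRingCat.of A)) (x : Z) :
    baseHom (s ≫ Spec.map (CommRingCat.ofHom φ)) x = (baseHom s x).comp φ := by
  rw [baseHom, baseHom, show φ = (CommRingCat.ofHom φ).hom from rfl, ← CommRingCat.hom_comp]
  congr 1
  rw [Scheme.Hom.comp_appTop, Category.assoc]
  exact (Category.assoc _ _ _).symm.trans ((congrArg (· ≫ (s.appTop ≫ Z.presheaf.germ ⊤ x trivial))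
    (Scheme.ΓSpecIso_inv_naturality (CommRingCat.ofHom φ)).symm).trans (Category.assoc _ _ _))

/-- The defect of smoothness of `f` at the point `a` at `τ`. -/
def KD (f : Z ⟶ Spec (CommRingCat.of R)) (a : T ⟶ Z) (τ : T) : ℕ∞ :=
  letI := (baseHom f (a τ)).toAlgebra
  letI := (a.stalkMap τ).hom.toAlgebra
  kdef R (Z.presheaf.stalk (a τ)) (T.presheaf.stalk τ)

theorem KD_tlen (f : Z ⟶ Spec (CommRingCat.of R)) [QuasiSeparated f] [LocallyOfFiniteType f] (a : T ⟶ Z) (τ : T) :
    tlen (T.presheaf.stalk τ) (((Scheme.Modules.pullback a).obj (Omega.sheaf f)).presheaf.stalk τ : Type u) =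
      KD f a τ :=
  tlen_pullback_omega f a τ

theorem KD_congr {f f' : Z ⟶ Spec (CommRingCat.of R)} {a a' : T ⟶ Z} (τ : T) (hf : f = f') (ha : a = a') :
    KD f a τ = KD f' a' τ := by
  subst hf ha; rfl

/-- Local rings of étale maps are formally étale. -/
theorem formallyEtale_stalkMap (g : W ⟶ Z) [Etale g] (w : W) :
    @Algebra.FormallyEtale (Z.presheaf.stalk (g w)) (W.presheaf.stalk w) _ _ (g.stalkMap w).hom.toAlgebra := by
  obtain ⟨V, hV, hwV, -⟩ := exists_isAffineOpen_mem_and_subset (X := Z) (x := g w) (U := ⊤) trivial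
  obtain ⟨U, hU, hwU, hUV⟩ := exists_isAffineOpen_mem_and_subset (X := W) (x := w) (U := g ⁻¹ᵁ V) hwV
  letI : Algebra Γ(Z, V) Γ(W, U) := (g.appLE V U hUV).hom.toAlgebra
  haveI : Algebra.Etale Γ(Z, V) Γ(W, U) :=
    RingHom.etale_algebraMap.1 (HasRingHomProperty.appLE @Etale g ‹_› ⟨V, hV⟩ ⟨U, hU⟩ hUV)
  letI := TopCat.Presheaf.algebra_section_stalk Z.presheaf (⟨g w, hwV⟩ : V)
  haveI := hV.isLocalization_stalk ⟨g w, hwV⟩
  letI := TopCat.Presheaf.algebra_section_stalk W.presheaf (⟨w, hwU⟩ : U)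
  haveI := hU.isLocalization_stalk ⟨w, hwU⟩
  letI := (g.stalkMap w).hom.toAlgebra
  letI : Algebra Γ(Z, V) (W.presheaf.stalk w) :=
    ((W.presheaf.germ U w hwU).hom.comp (g.appLE V U hUV).hom).toAlgebra
  haveI : IsScalarTower Γ(Z, V) Γ(W, U) (W.presheaf.stalk w) := IsScalarTower.of_algebraMap_eq fun _ => rfl
  haveI : IsScalarTower Γ(Z, V) (Z.presheaf.stalk (g w)) (W.presheaf.stalk w) := IsScalarTower.of_algebraMap_eq' (by
    show (W.presheaf.germ U w hwU).hom.comp (g.appLE V U hUV).hom =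
      (g.stalkMap w).hom.comp (Z.presheaf.germ V (g w) hwV).hom
    rw [← CommRingCat.hom_comp, ← CommRingCat.hom_comp, Scheme.Hom.germ_stalkMap]
    congr 1
    delta Scheme.Hom.appLE
    rw [Category.assoc, TopCat.Presheaf.germ_res])
  haveI : Algebra.FormallyEtale Γ(W, U) (W.presheaf.stalk w) :=
    Algebra.FormallyEtale.of_isLocalization (hU.primeIdealOf ⟨w, hwU⟩).asIdeal.primeCompl
  haveI : Algebra.FormallyEtale Γ(Z, V) (W.presheaf.stalk w) :=
    Algebra.FormallyEtale.comp Γ(Z, V) Γ(W, U) (W.presheaf.stalk w)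
  exact Algebra.FormallyEtale.localization_base (hV.primeIdealOf ⟨g w, hwV⟩).asIdeal.primeCompl

theorem KD_etale (f : Z ⟶ Spec (CommRingCat.of R)) (g : W ⟶ Z) [Etale g] (a : T ⟶ W) (τ : T) :
    KD (g ≫ f) a τ = KD f (a ≫ g) τ := by
  letI := (baseHom f (g (a τ))).toAlgebra
  letI := (baseHom (g ≫ f) (a τ)).toAlgebra
  letI := (g.stalkMap (a τ)).hom.toAlgebra
  letI := (a.stalkMap τ).hom.toAlgebra
  letI : Algebra (Z.presheaf.stalk (g (a τ))) (T.presheaf.stalk τ) :=
    ((a.stalkMap τ).hom.comp (g.stalkMap (a τ)).hom).toAlgebra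
  haveI : IsScalarTower R (Z.presheaf.stalk (g (a τ))) (W.presheaf.stalk (a τ)) :=
    IsScalarTower.of_algebraMap_eq' (baseHom_comp f g (a τ))
  haveI : IsScalarTower (Z.presheaf.stalk (g (a τ))) (W.presheaf.stalk (a τ)) (T.presheaf.stalk τ) :=
    IsScalarTower.of_algebraMap_eq fun _ => rfl
  haveI := formallyEtale_stalkMap g (a τ)
  refine (kdef_etale R (Z.presheaf.stalk (g (a τ))) (W.presheaf.stalk (a τ)) (T.presheaf.stalk τ)).trans ?_
  have e : (a.stalkMap τ).hom.comp (g.stalkMap (a τ)).hom = ((a ≫ g).stalkMap τ).hom :=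
    (congrArg CommRingCat.Hom.hom (Scheme.Hom.stalkMap_comp a g τ)).symm
  show @kdef R _ (T.presheaf.stalk τ) _ _ _ _ ((a.stalkMap τ).hom.comp (g.stalkMap (a τ)).hom).toAlgebra = _
  rw [e]
  rfl

/-- Unramified change of the valuation ring. -/
theorem KD_target (f : Z ⟶ Spec (CommRingCat.of R)) [QuasiSeparated f] [LocallyOfFiniteType f]
    {E : Scheme.{u}} (p : E ⟶ T) [Etale p] (a : T ⟶ Z) (ε : E) [IsDomain (T.presheaf.stalk (p ε))]
    [IsDiscreteValuationRing (T.presheaf.stalk (p ε))] [IsDomain (E.presheaf.stalk ε)] :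
    KD f (p ≫ a) ε = KD f a (p ε) := by
  letI := (baseHom f (a (p ε))).toAlgebra
  letI := (a.stalkMap (p ε)).hom.toAlgebra
  letI := (p.stalkMap ε).hom.toAlgebra
  letI : Algebra (Z.presheaf.stalk (a (p ε))) (E.presheaf.stalk ε) :=
    ((p.stalkMap ε).hom.comp (a.stalkMap (p ε)).hom).toAlgebra
  haveI : IsScalarTower (Z.presheaf.stalk (a (p ε))) (T.presheaf.stalk (p ε)) (E.presheaf.stalk ε) :=
    IsScalarTower.of_algebraMap_eq fun _ => rfl
  haveI : Module.Flat (T.presheaf.stalk (p ε)) (E.presheaf.stalk ε) := Flat.stalkMap p ε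
  haveI : IsLocalHom (algebraMap (T.presheaf.stalk (p ε)) (E.presheaf.stalk ε)) :=
    inferInstanceAs (IsLocalHom (p.stalkMap ε).hom)
  haveI := (nonempty_stalk_omega f (a (p ε))).2
  refine Eq.trans ?_ (kdef_target R (Z.presheaf.stalk (a (p ε))) (T.presheaf.stalk (p ε)) (E.presheaf.stalk ε)
    (Weight.map_maximalIdeal_stalkMap p ε))
  have e : ((p ≫ a).stalkMap ε).hom = (p.stalkMap ε).hom.comp (a.stalkMap (p ε)).hom :=
    congrArg CommRingCat.Hom.hom (Scheme.Hom.stalkMap_comp p a ε)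
  show @kdef R (Z.presheaf.stalk (a (p ε))) (E.presheaf.stalk ε) _ _ _ _ ((p ≫ a).stalkMap ε).hom.toAlgebra = _
  rw [e]

/-- Formally unramified change of the base. -/
theorem KD_base {R' : Type u} [CommRing R'] [Algebra R R'] [Algebra.FormallyUnramified R R']
    (f : Z ⟶ Spec (CommRingCat.of R')) (a : T ⟶ Z) (τ : T) :
    KD (f ≫ Spec.map (CommRingCat.ofHom (algebraMap R R'))) a τ = KD f a τ := by
  letI := (baseHom f (a τ)).toAlgebra
  letI := (baseHom (f ≫ Spec.map (CommRingCat.ofHom (algebraMap R R'))) (a τ)).toAlgebra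
  letI := (a.stalkMap τ).hom.toAlgebra
  haveI : IsScalarTower R R' (Z.presheaf.stalk (a τ)) :=
    IsScalarTower.of_algebraMap_eq' (baseHom_Spec_map (algebraMap R R') f (a τ))
  exact (kdef_base R R' (Z.presheaf.stalk (a τ)) (T.presheaf.stalk τ)).symm

/-- The local ring of an affine scheme at a point is formally étale over the ring. -/
theorem formallyEtale_baseHom {D : Type u} [CommRing D] (q : Spec (CommRingCat.of D)) :
    @Algebra.FormallyEtale D ((Spec (CommRingCat.of D)).presheaf.stalk q) _ _ (baseHom (𝟙 _) q).toAlgebra := by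
  have hU := isAffineOpen_top (Spec (CommRingCat.of D))
  letI := (Spec (CommRingCat.of D)).presheaf.algebra_section_stalk (U := ⊤) ⟨q, trivial⟩
  haveI := hU.isLocalization_stalk ⟨q, trivial⟩
  letI : Algebra D Γ(Spec (CommRingCat.of D), ⊤) := (Scheme.ΓSpecIso (CommRingCat.of D)).inv.hom.toAlgebra
  letI := (baseHom (𝟙 (Spec (CommRingCat.of D))) q).toAlgebra
  haveI : IsScalarTower D Γ(Spec (CommRingCat.of D), ⊤) ((Spec (CommRingCat.of D)).presheaf.stalk q) :=
    IsScalarTower.of_algebraMap_eq' rfl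
  haveI : Algebra.FormallyEtale D Γ(Spec (CommRingCat.of D), ⊤) := by
    refine Algebra.FormallyEtale.of_equiv (AlgEquiv.ofBijective (Algebra.ofId D Γ(Spec (CommRingCat.of D), ⊤)) ?_)
    exact ConcreteCategory.bijective_of_isIso (Scheme.ΓSpecIso (CommRingCat.of D)).inv
  haveI : Algebra.FormallyEtale Γ(Spec (CommRingCat.of D), ⊤) ((Spec (CommRingCat.of D)).presheaf.stalk q) :=
    Algebra.FormallyEtale.of_isLocalization (hU.primeIdealOf ⟨q, trivial⟩).asIdeal.primeCompl
  exact Algebra.FormallyEtale.comp D Γ(Spec (CommRingCat.of D), ⊤) _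

/-- The defect at a point of an affine scheme. -/
theorem KD_affine {D : Type u} [CommRing D] [Algebra R D] (a : T ⟶ Spec (CommRingCat.of D)) (τ : T) :
    letI := (baseHom a τ).toAlgebra
    KD (Spec.map (CommRingCat.ofHom (algebraMap R D))) a τ = kdef R D (T.presheaf.stalk τ) := by
  letI := (baseHom a τ).toAlgebra
  let O := (Spec (CommRingCat.of D)).presheaf.stalk (a τ)
  letI : Algebra D O := (baseHom (𝟙 _) (a τ)).toAlgebra
  letI : Algebra R O := (baseHom (Spec.map (CommRingCat.ofHom (algebraMap R D))) (a τ)).toAlgebra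
  letI := (a.stalkMap τ).hom.toAlgebra
  haveI : IsScalarTower R D O := IsScalarTower.of_algebraMap_eq' (by
    show baseHom (Spec.map (CommRingCat.ofHom (algebraMap R D))) (a τ) = (baseHom (𝟙 _) (a τ)).comp (algebraMap R D)
    rw [← baseHom_Spec_map, Category.id_comp])
  haveI : IsScalarTower D O (T.presheaf.stalk τ) := IsScalarTower.of_algebraMap_eq' (by
    show baseHom a τ = (a.stalkMap τ).hom.comp (baseHom (𝟙 _) (a τ))
    rw [← baseHom_comp, Category.comp_id])
  haveI : Algebra.FormallyEtale D O := formallyEtale_baseHom (a τ)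
  exact kdef_etale R D O (T.presheaf.stalk τ)

/-- The point below a local-ring valued point of an affine scheme. -/
theorem asIdeal_eq_comap {D : Type u} [CommRing D] (a : T ⟶ Spec (CommRingCat.of D)) (τ : T) :
    (a τ).asIdeal = (maximalIdeal (T.presheaf.stalk τ)).comap (baseHom a τ) := by
  ext d
  have e : baseHom a τ = (a.stalkMap τ).hom.comp (baseHom (𝟙 _) (a τ)) := by
    rw [← baseHom_comp, Category.comp_id]
  rw [Ideal.mem_comap, IsLocalRing.mem_maximalIdeal, mem_nonunits_iff, e, RingHom.comp_apply, isUnit_map_iff]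
  show d ∈ (a τ).asIdeal ↔
    ¬IsUnit ((Spec (CommRingCat.of D)).presheaf.germ ⊤ (a τ) trivial ((Scheme.ΓSpecIso (CommRingCat.of D)).inv d))
  rw [← Scheme.mem_basicOpen (U := ⊤) (Spec (CommRingCat.of D)) _ (a τ) trivial, basicOpen_eq_of_affine]
  exact not_not.symm

/-- Local rings of étale schemes over discrete valuation rings. -/
theorem dvr_of_etale {E : Scheme.{u}} (p : E ⟶ T) [Etale p] (ε : E) [IsLocallyNoetherian T]
    [IsDomain (T.presheaf.stalk (p ε))] [IsDiscreteValuationRing (T.presheaf.stalk (p ε))] :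
    ∃ _ : IsDomain (E.presheaf.stalk ε), IsDiscreteValuationRing (E.presheaf.stalk ε) ∧
      Function.Injective (p.stalkMap ε).hom ∧
      ∀ π, Irreducible π → Irreducible ((p.stalkMap ε).hom π) := by
  haveI : IsLocallyNoetherian E := LocallyOfFiniteType.isLocallyNoetherian p
  letI := (p.stalkMap ε).hom.toAlgebra
  haveI : Module.Flat (T.presheaf.stalk (p ε)) (E.presheaf.stalk ε) := Flat.stalkMap p ε
  haveI : IsLocalHom (algebraMap (T.presheaf.stalk (p ε)) (E.presheaf.stalk ε)) :=
    inferInstanceAs (IsLocalHom (p.stalkMap ε).hom)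
  have hmax := Weight.map_maximalIdeal_stalkMap p ε
  haveI : IsRegularLocalRing (T.presheaf.stalk (p ε)) := inferInstance
  haveI hreg : IsRegularLocalRing (E.presheaf.stalk ε) := (NodeBlow14.isRegular_iff_etale p ε).1 inferInstance
  haveI hdom : IsDomain (E.presheaf.stalk ε) := RegLoc.isDomain (E.presheaf.stalk ε)
  haveI : Module.FaithfullyFlat (T.presheaf.stalk (p ε)) (E.presheaf.stalk ε) :=
    Module.FaithfullyFlat.of_flat_of_isLocalHom
  have hinj : Function.Injective (p.stalkMap ε).hom :=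
    FaithfulSMul.algebraMap_injective (T.presheaf.stalk (p ε)) (E.presheaf.stalk ε)
  have hspan : ∀ π, Irreducible π → maximalIdeal (E.presheaf.stalk ε) = Ideal.span {(p.stalkMap ε).hom π} := by
    intro π hπ
    rw [← hmax, hπ.maximalIdeal_eq, Ideal.map_span, Set.image_singleton]
  obtain ⟨π₀, hπ₀⟩ := IsDiscreteValuationRing.exists_irreducible (T.presheaf.stalk (p ε))
  have hne : (p.stalkMap ε).hom π₀ ≠ 0 := fun e => hπ₀.ne_zero (hinj (e.trans (map_zero _).symm))
  have hnf : ¬IsField (E.presheaf.stalk ε) := fun hF => hne (by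
    have h1 := hspan π₀ hπ₀
    rw [IsLocalRing.isField_iff_maximalIdeal_eq.1 hF] at h1
    exact Ideal.span_singleton_eq_bot.1 h1.symm)
  haveI hdvr : IsDiscreteValuationRing (E.presheaf.stalk ε) :=
    ((IsDiscreteValuationRing.TFAE (E.presheaf.stalk ε) hnf).out 0 4).2 (show (maximalIdeal (E.presheaf.stalk ε)).IsPrincipal from ⟨⟨_, hspan π₀ hπ₀⟩⟩)
  refine ⟨hdom, hdvr, hinj, fun π hπ => ?_⟩
  exact (IsDiscreteValuationRing.irreducible_iff_uniformizer _).2 (hspan π hπ)

end Groth.Agent.NodeDefect14
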