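import Groth.Agent.Lib.NodeDefect14.Local
import Groth.Agent.Lib.NodeDefect14.Points
import Groth.Agent.Lib.NodeDefect14.Model

/-!
# The defect of smoothness drops under blowing up a nonregular point
-/

set_option autoImplicit false
set_option linter.style.haveILetI false
set_option backward.isDefEq.respectTransparency false
set_option backward.isDefEq.respectTransparency.types false
set_option maxHeartbeats 2000000

universe u

open CategoryTheory CategoryTheory.Limits AlgebraicGeometry TopologicalSpace IsLocalRing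
open Groth.Agent.NodalEtale14 (Node)
open Groth.Agent.NodeBlow14 (cst crd πN)

noncomputable section

namespace Groth.Agent.NodeDefect14

/-- Orders are preserved by maps preserving uniformizers. -/
theorem ord_map {S S₁ : Type u} [CommRing S] [IsDomain S] [IsDiscreteValuationRing S] [CommRing S₁] [IsDomain S₁]
    [IsDiscreteValuationRing S₁] (ρ : S →+* S₁) (hρ : ∀ π, Irreducible π → Irreducible (ρ π)) {s : S} (hs : s ≠ 0) :
    Ring.ord S₁ (ρ s) = Ring.ord S s := by
  obtain ⟨π, hπ⟩ := IsDiscreteValuationRing.exists_irreducible S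
  obtain ⟨n, v, rfl⟩ := IsDiscreteValuationRing.eq_unit_mul_pow_irreducible hs hπ
  rw [map_mul, map_pow, Ring.ord_mul_of_isUnit_left v.isUnit, Ring.ord_mul_of_isUnit_left (v.isUnit.map ρ),
    ord_pow_irreducible hπ, ord_pow_irreducible (hρ π hπ)]

/-- The inequality on a chart, in terms of points. -/
theorem regular_or_KD_chart {R : Type u} [CommRing R] [IsDomain R] [IsDiscreteValuationRing R] {ϖ : R}
    (hϖ : Irreducible ϖ) {c : R} (c₂ : R) (hc : c = ϖ ^ 2 * c₂) (I : Ideal (Node R c))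
    (hI : I = Ideal.span {cst c ϖ, crd c 0, crd c 1}) {a : Node R c} (ha : a ∈ I)
    [IsNoetherianRing ↥(BlowUp.affineAlgebra (Node R c) I a)]
    {E : Scheme.{u}} (σ : E ⟶ Spec (CommRingCat.of ↥(BlowUp.affineAlgebra (Node R c) I a))) (ε : E)
    [IsDomain (E.presheaf.stalk ε)] [IsDiscreteValuationRing (E.presheaf.stalk ε)]
    (τN : E ⟶ Spec (CommRingCat.of (Node R c)))
    (hτ : τN = σ ≫ Spec.map (CommRingCat.ofHom (algebraMap (Node R c) ↥(BlowUp.affineAlgebra (Node R c) I a))))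
    (h0 : baseHom τN ε (cst c ϖ) ≠ 0) (h1 : baseHom τN ε (cst c ϖ) ∈ maximalIdeal (E.presheaf.stalk ε)) :
    IsRegularLocalRing ((Spec (CommRingCat.of ↥(BlowUp.affineAlgebra (Node R c) I a))).presheaf.stalk (σ ε)) ∨
    KD (Spec.map (CommRingCat.ofHom (algebraMap (Node R c) ↥(BlowUp.affineAlgebra (Node R c) I a))) ≫ πN c) σ ε ≤
      KD (πN c) τN ε - Ring.ord (E.presheaf.stalk ε) (baseHom τN ε (cst c ϖ)) := by
  let N := Node R c
  let D := ↥(BlowUp.affineAlgebra N I a)
  letI : Algebra R D := ((algebraMap N D).comp (cst c)).toAlgebra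
  haveI : IsScalarTower R N D := IsScalarTower.of_algebraMap_eq (R := R) (S := N) (A := D) fun _ => rfl
  letI : Algebra D (E.presheaf.stalk ε) := (baseHom σ ε).toAlgebra
  letI : Algebra N (E.presheaf.stalk ε) := (baseHom τN ε).toAlgebra
  haveI : IsScalarTower N D (E.presheaf.stalk ε) := IsScalarTower.of_algebraMap_eq' (by
    show baseHom τN ε = (baseHom σ ε).comp (algebraMap N D)
    rw [hτ, baseHom_Spec_map])
  rcases regular_or_kdef_le hϖ c₂ hc I hI ha (E.presheaf.stalk ε) h0 h1 with h | h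
  · exact Or.inl (h (σ ε) (asIdeal_eq_comap σ ε))
  · refine Or.inr ?_
    have eD : KD (Spec.map (CommRingCat.ofHom (algebraMap N D)) ≫ πN c) σ ε = kdef R D (E.presheaf.stalk ε) := by
      refine (KD_congr (f' := Spec.map (CommRingCat.ofHom (algebraMap R D))) ε ?_ rfl).trans (KD_affine σ ε)
      rw [← Spec.map_comp, ← CommRingCat.ofHom_comp]
      rfl
    have eN : KD (πN c) τN ε = kdef R N (E.presheaf.stalk ε) := KD_affine τN ε
    rw [eD, eN]
    exact h

/-- The defect of smoothness drops by the ramification. -/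
theorem regular_or_KD_le {R : Type u} [CommRing R] [IsDomain R] [IsDiscreteValuationRing R] {ϖ : R}
    (hϖ : Irreducible ϖ) {Z Z' T : Scheme.{u}} (f : Z ⟶ Spec (CommRingCat.of R)) [IsProper f]
    (hf : Curv2.IsNodalFamily f) (x : Z) (hx : f x = IsLocalRing.closedPoint R) (hxc : IsClosed ({x} : Set Z))
    (hreg : ¬ IsRegularLocalRing (Z.presheaf.stalk x))
    (π : Z' ⟶ Z) (hπ : BlowUp.IsBlowUp π (Scheme.IdealSheafData.vanishingIdeal ⟨{x}, hxc⟩))
    [IsLocallyNoetherian T] (ã : T ⟶ Z') (τ : T) (hτ : (ã ≫ π) τ = x) [IsDomain (T.presheaf.stalk τ)]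
    [IsDiscreteValuationRing (T.presheaf.stalk τ)] (h0 : baseHom (ã ≫ π ≫ f) τ ϖ ≠ 0) :
    IsRegularLocalRing (Z'.presheaf.stalk (ã τ)) ∨
      KD (π ≫ f) ã τ ≤ KD f (ã ≫ π) τ - Ring.ord (T.presheaf.stalk τ) (baseHom (ã ≫ π ≫ f) τ ϖ) := by
  obtain ⟨R', _, _, _, _, _, hϖ', c, c₂, hc, I, hI, B, bN, hbN, hbNp, U, e, he, g, hg, x₁, i, hx₁, hgI, hcomm, hi⟩ :=
    exists_local_model f hf x hx hxc hreg π hπ hϖ
  haveI := he; haveI := hg; haveI := hbNp
  haveI : IsLocallyNoetherian Z := LocallyOfFiniteType.isLocallyNoetherian f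
  haveI : IsProper π := BlowUpExist.isProper (BlowUpReg6.isFiniteTypeIdeal _) hπ
  haveI : IsLocallyNoetherian Z' := LocallyOfFiniteType.isLocallyNoetherian π
  haveI : IsNoetherianRing (CommRingCat.of (Node R' c) : CommRingCat.{u}) := inferInstanceAs (IsNoetherianRing (Node R' c))
  haveI : IsLocallyNoetherian (Spec (CommRingCat.of (Node R' c))) := inferInstance
  haveI : IsLocallyNoetherian B := LocallyOfFiniteType.isLocallyNoetherian bN
  let gR : Spec (CommRingCat.of R') ⟶ Spec (CommRingCat.of R) := Spec.map (CommRingCat.ofHom (algebraMap R R'))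
  -- the étale point
  obtain ⟨ε₀, hε₁, hε₂⟩ := Scheme.Pullback.exists_preimage_pullback (f := ã ≫ π) (g := e) τ x₁
    (hτ.trans hx₁.symm)
  subst hε₁
  let w₀ : pullback (ã ≫ π) e ⟶ pullback e π :=
    pullback.lift (pullback.snd (ã ≫ π) e) (pullback.fst (ã ≫ π) e ≫ ã)
      (by rw [Category.assoc]; exact pullback.condition.symm)
  let sg : pullback e π ⟶ B := i.hom ≫ pullback.snd g bN
  haveI : Etale (pullback.snd g bN) := MorphismProperty.pullback_snd _ _ inferInstance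
  haveI : Etale sg := inferInstance
  haveI : Etale (pullback.snd e π) := MorphismProperty.pullback_snd _ _ inferInstance
  haveI : Etale (pullback.fst (ã ≫ π) e) := MorphismProperty.pullback_fst _ _ inferInstance
  let β₀ := w₀ ≫ sg
  obtain ⟨a', ha', V, eV, hmem, heV⟩ := S1695.result (Node R' c) I bN hbN (β₀ ε₀)
  let D := ↥(BlowUp.affineAlgebra (Node R' c) I a')
  haveI : IsNoetherianRing D := by
    haveI : IsLocallyNoetherian V.toScheme := isLocallyNoetherian_of_isOpenImmersion V.ι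
    haveI : IsLocallyNoetherian (Spec (CommRingCat.of D)) := isLocallyNoetherian_of_isOpenImmersion eV.inv
    exact isLocallyNoetherian_Spec.1 ‹IsLocallyNoetherian (Spec (CommRingCat.of D))›
  let Eo : (pullback (ã ≫ π) e).Opens := β₀ ⁻¹ᵁ V
  let ε : Eo.toScheme := ⟨ε₀, hmem⟩
  let p : Eo.toScheme ⟶ T := Eo.ι ≫ pullback.fst (ã ≫ π) e
  let u : Eo.toScheme ⟶ U := Eo.ι ≫ pullback.snd (ã ≫ π) e
  let w : Eo.toScheme ⟶ pullback e π := Eo.ι ≫ w₀
  let σ : Eo.toScheme ⟶ Spec (CommRingCat.of D) := β₀.resLE V Eo le_rfl ≫ eV.hom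
  let j : Spec (CommRingCat.of D) ⟶ B := eV.inv ≫ V.ι
  have hσ : σ ≫ j = w ≫ sg := by
    show (β₀.resLE V Eo le_rfl ≫ eV.hom) ≫ eV.inv ≫ V.ι = (Eo.ι ≫ w₀) ≫ sg
    rw [Category.assoc, Iso.hom_inv_id_assoc, Scheme.Hom.resLE_comp_ι, Category.assoc]
  have hj : j ≫ bN = Spec.map (CommRingCat.ofHom (algebraMap (Node R' c) D)) := by
    show (eV.inv ≫ V.ι) ≫ bN = _
    rw [Category.assoc, ← heV, Iso.inv_hom_id_assoc]
  have hpa : p ≫ ã ≫ π = u ≫ e := by
    show (Eo.ι ≫ _) ≫ ã ≫ π = (Eo.ι ≫ _) ≫ e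
    rw [Category.assoc, Category.assoc]
    exact congrArg (Eo.ι ≫ ·) pullback.condition
  have hwsnd : w ≫ pullback.snd e π = p ≫ ã := by
    show (Eo.ι ≫ w₀) ≫ _ = (Eo.ι ≫ _) ≫ ã
    rw [Category.assoc, pullback.lift_snd, Category.assoc]
  have hwN : w ≫ sg ≫ bN = u ≫ g := by
    show (Eo.ι ≫ w₀) ≫ (i.hom ≫ pullback.snd g bN) ≫ bN = (Eo.ι ≫ _) ≫ g
    rw [Category.assoc, Category.assoc, Category.assoc, ← pullback.condition, reassoc_of% hi,
      pullback.lift_fst_assoc]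
  have hτN : u ≫ g = σ ≫ Spec.map (CommRingCat.ofHom (algebraMap (Node R' c) D)) := by
    rw [← hj, reassoc_of% hσ, hwN]
  haveI : Etale p := inferInstance
  haveI : IsDomain (T.presheaf.stalk (p ε)) :=
    inferInstanceAs (IsDomain (T.presheaf.stalk (pullback.fst (ã ≫ π) e ε₀)))
  haveI : IsDiscreteValuationRing (T.presheaf.stalk (p ε)) :=
    inferInstanceAs (IsDiscreteValuationRing (T.presheaf.stalk (pullback.fst (ã ≫ π) e ε₀)))
  obtain ⟨hdom, hdvr, hinj, hirr⟩ := dvr_of_etale p ε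
  haveI := hdom; haveI := hdvr
  have hs : baseHom (u ≫ g) ε (cst c (algebraMap R R' ϖ)) = (p.stalkMap ε).hom (baseHom (ã ≫ π ≫ f) (p ε) ϖ) := by
    have h1 : baseHom ((u ≫ g) ≫ πN c ≫ gR) ε ϖ = baseHom (u ≫ g) ε (cst c (algebraMap R R' ϖ)) := by
      rw [← Category.assoc (u ≫ g), baseHom_Spec_map, baseHom_Spec_map]
      rfl
    have h2 : (u ≫ g) ≫ πN c ≫ gR = p ≫ ã ≫ π ≫ f := by
      rw [Category.assoc, hcomm, ← reassoc_of% hpa]
    rw [← h1, h2, baseHom_comp]
    rfl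
  have h0' : baseHom (u ≫ g) ε (cst c (algebraMap R R' ϖ)) ≠ 0 := fun h =>
    h0 (hinj ((hs.symm.trans h).trans (map_zero _).symm))
  have h1' : baseHom (u ≫ g) ε (cst c (algebraMap R R' ϖ)) ∈ maximalIdeal (Eo.toScheme.presheaf.stalk ε) := by
    have hu : u ε = x₁ := hε₂
    have hN : ((u ≫ g) ε).asIdeal = I := by rw [Scheme.Hom.comp_apply, hu]; exact hgI
    rw [← Ideal.mem_comap, ← asIdeal_eq_comap (u ≫ g) ε, hN, hI]
    exact Ideal.subset_span (Or.inl rfl)
  rcases regular_or_KD_chart hϖ' c₂ hc I hI ha' σ ε (u ≫ g) hτN h0' h1' with h | h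
  · -- regularity
    refine Or.inl ?_
    have hB : IsRegularLocalRing (B.presheaf.stalk (j (σ ε))) := (NodeBlow14.isRegular_iff_etale j (σ ε)).2 h
    rw [← Scheme.Hom.comp_apply, hσ, Scheme.Hom.comp_apply, NodeBlow14.isRegular_iff_etale sg (w ε)] at hB
    have hZ : IsRegularLocalRing (Z'.presheaf.stalk (pullback.snd e π (w ε))) :=
      (NodeBlow14.isRegular_iff_etale (pullback.snd e π) (w ε)).2 hB
    rw [← Scheme.Hom.comp_apply, hwsnd] at hZ
    exact hZ
  · refine Or.inr ?_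
    have hA : KD f (ã ≫ π) (p ε) = KD (πN c) (u ≫ g) ε := by
      rw [← KD_target f p (ã ≫ π) ε, KD_congr ε rfl hpa, ← KD_etale f e u ε, KD_congr ε hcomm.symm rfl,
        KD_etale (πN c ≫ gR) g u ε]
      exact KD_base (πN c) (u ≫ g) ε
    have hB : KD (π ≫ f) ã (p ε) =
        KD (Spec.map (CommRingCat.ofHom (algebraMap (Node R' c) D)) ≫ πN c) σ ε := by
      have hsg : sg ≫ bN = pullback.fst e π ≫ g := by
        show (i.hom ≫ pullback.snd g bN) ≫ bN = _
        rw [Category.assoc, ← pullback.condition, reassoc_of% hi]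
      have e1 : pullback.snd e π ≫ π ≫ f = sg ≫ bN ≫ πN c ≫ gR := by
        rw [← pullback.condition_assoc, reassoc_of% hsg]
        exact congrArg (pullback.fst e π ≫ ·) hcomm.symm
      rw [← KD_target (π ≫ f) p ã ε, KD_congr ε rfl hwsnd.symm, ← KD_etale (π ≫ f) (pullback.snd e π) w ε,
        KD_congr ε e1 rfl, KD_etale _ sg w ε, KD_congr ε rfl hσ.symm, ← KD_etale _ j σ ε,
        KD_congr ε (show j ≫ bN ≫ πN c ≫ gR =
          (Spec.map (CommRingCat.ofHom (algebraMap (Node R' c) D)) ≫ πN c) ≫ gR by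
            rw [← Category.assoc, hj, Category.assoc]) rfl]
      exact KD_base _ σ ε
    show KD (π ≫ f) ã (p ε) ≤ KD f (ã ≫ π) (p ε) - Ring.ord (T.presheaf.stalk (p ε)) (baseHom (ã ≫ π ≫ f) (p ε) ϖ)
    rw [hA, hB, ← ord_map (p.stalkMap ε).hom hirr (s := baseHom (ã ≫ π ≫ f) (p ε) ϖ) h0, ← hs]
    exact h

end Groth.Agent.NodeDefect14
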