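import Groth.Agent.Lib.NodeDefect14.Kaehler
import Groth.Agent.Lib.Omega26.Basic
import Groth.Agent.Lib.TensorMod.PullStalk
import Groth.Agent.Lib.ModM1.Stalk

/-!
# Stalks of pullbacks of the sheaf of differentials
-/

set_option autoImplicit false
set_option linter.style.haveILetI false
set_option backward.isDefEq.respectTransparency false
set_option backward.isDefEq.respectTransparency.types false
set_option maxHeartbeats 800000

universe u

open CategoryTheory AlgebraicGeometry TensorProduct Opposite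

noncomputable section

namespace Groth.Agent.NodeDefect14

variable {R : Type u} [CommRing R] {Z : Scheme.{u}}

/-- The map from the base ring to a local ring. -/
def baseHom (f : Z ⟶ Spec (CommRingCat.of R)) (x : Z) : R →+* Z.presheaf.stalk x :=
  ((Scheme.ΓSpecIso (CommRingCat.of R)).inv ≫ f.appTop ≫ Z.presheaf.germ ⊤ x trivial).hom

theorem baseHom_comp {W : Scheme.{u}} (f : Z ⟶ Spec (CommRingCat.of R)) (g : W ⟶ Z) (w : W) :
    baseHom (g ≫ f) w = (g.stalkMap w).hom.comp (baseHom f (g w)) := by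
  rw [baseHom, baseHom, ← CommRingCat.hom_comp]
  simp only [Scheme.Hom.comp_appTop, Category.assoc]
  congr 3
  exact (Scheme.Hom.germ_stalkMap g ⊤ w trivial).symm

/-- The stalks of the sheaf of differentials are the differentials of the local rings. -/
theorem nonempty_stalk_omega (f : Z ⟶ Spec (CommRingCat.of R)) [QuasiSeparated f] [LocallyOfFiniteType f] (x : Z) :
    letI := (baseHom f x).toAlgebra
    Nonempty (((Omega.sheaf f).presheaf.stalk x : Type u) ≃ₗ[Z.presheaf.stalk x] Ω[Z.presheaf.stalk x⁄R]) ∧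
      Module.Finite (Z.presheaf.stalk x) Ω[Z.presheaf.stalk x⁄R] := by
  letI := (baseHom f x).toAlgebra
  let V : (Spec (CommRingCat.of R)).Opens := ⊤
  obtain ⟨U, hU, hxU, -⟩ := exists_isAffineOpen_mem_and_subset (X := Z) (x := x) (U := ⊤) trivial
  have hUV : U ≤ f ⁻¹ᵁ V := fun _ _ => trivial
  let Γ₀ : Type u := Γ(Spec (CommRingCat.of R), V)
  let B : Type u := Γ(Z, U)
  let A : Type u := Z.presheaf.stalk x
  letI : Algebra R Γ₀ := (Scheme.ΓSpecIso (CommRingCat.of R)).inv.hom.toAlgebra
  letI : Algebra Γ₀ B := (f.appLE V U hUV).hom.toAlgebra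
  letI : Algebra R B := ((f.appLE V U hUV).hom.comp (Scheme.ΓSpecIso (CommRingCat.of R)).inv.hom).toAlgebra
  haveI : IsScalarTower R Γ₀ B := IsScalarTower.of_algebraMap_eq fun _ => rfl
  letI := TopCat.Presheaf.algebra_section_stalk Z.presheaf (⟨x, hxU⟩ : U)
  haveI := hU.isLocalization_stalk ⟨x, hxU⟩
  haveI : IsScalarTower R B A := IsScalarTower.of_algebraMap_eq' (by
    show baseHom f x = (Z.presheaf.germ U x hxU).hom.comp
      ((f.appLE V U hUV).hom.comp (Scheme.ΓSpecIso (CommRingCat.of R)).inv.hom)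
    rw [baseHom, ← CommRingCat.hom_comp, ← CommRingCat.hom_comp, Category.assoc]
    congr 2
    delta Scheme.Hom.appLE
    rw [Category.assoc, TopCat.Presheaf.germ_res]
    rfl)
  have hbij : Function.Bijective (algebraMap R Γ₀) :=
    ConcreteCategory.bijective_of_isIso (Scheme.ΓSpecIso (CommRingCat.of R)).inv
  haveI : Algebra.FormallyUnramified R Γ₀ := Algebra.FormallyUnramified.of_surjective (Algebra.ofId R Γ₀) hbij.2
  haveI : Algebra.FormallyEtale B A :=
    Algebra.FormallyEtale.of_isLocalization (hU.primeIdealOf ⟨x, hxU⟩).asIdeal.primeCompl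
  -- sections on the affine
  have hinj : Function.Injective (KaehlerDifferential.map R Γ₀ B B) := by
    rw [injective_iff_map_eq_zero]
    intro w hw
    obtain ⟨z, rfl⟩ := (KaehlerDifferential.exact_mapBaseChange_map R Γ₀ B w).1 hw
    rw [Subsingleton.elim z 0, map_zero]
  let e₀ : Ω[B⁄R] ≃ₗ[B] Γ(Omega.sheaf f, U) :=
    (LinearEquiv.ofBijective (KaehlerDifferential.map R Γ₀ B B)
      ⟨hinj, KaehlerDifferential.map_surjective R Γ₀ B⟩).trans
      (Omega26.sectEquiv f hU (isAffineOpen_top _) hUV)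
  -- localisation
  haveI : Coh.IsQCoh (Omega.sheaf f) := Omega26.isQCoh f
  letI := M1.stalkModule (Omega.sheaf f) hxU
  haveI := M1.isLocalizedModule_germ (Omega.sheaf f) hU hxU
  haveI : IsScalarTower B A ((Omega.sheaf f).presheaf.stalk x) :=
    IsScalarTower.of_algebraMap_smul fun _ _ => rfl
  have hb : IsBaseChange A (M1.germₗ (Omega.sheaf f) hxU) :=
    IsLocalizedModule.isBaseChange (hU.primeIdealOf ⟨x, hxU⟩).asIdeal.primeCompl _ _
  let e₁ : A ⊗[B] Ω[B⁄R] ≃ₗ[A] Ω[A⁄R] := KaehlerDifferential.tensorKaehlerEquivOfFormallyEtale R B A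
  haveI : Algebra.FiniteType Γ₀ B := f.finiteType_appLE (isAffineOpen_top _) hU hUV
  haveI : Algebra.FiniteType R Γ₀ := Algebra.FiniteType.of_surjective (Algebra.ofId R Γ₀) hbij.2
  haveI : Algebra.FiniteType R B := Algebra.FiniteType.trans inferInstance ‹Algebra.FiniteType Γ₀ B›
  haveI : Module.Finite B Ω[B⁄R] := inferInstance
  haveI : Module.Finite A (A ⊗[B] Ω[B⁄R]) := Module.Finite.base_change B A _
  exact ⟨⟨hb.equiv.symm.trans ((AlgebraTensorModule.congr (LinearEquiv.refl A A) e₀.symm).trans e₁)⟩,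
    Module.Finite.equiv e₁⟩

/-- The defect of smoothness of the pullback of the differentials at a point. -/
theorem tlen_pullback_omega (f : Z ⟶ Spec (CommRingCat.of R)) [QuasiSeparated f] [LocallyOfFiniteType f]
    {T : Scheme.{u}} (a : T ⟶ Z) (τ : T) :
    letI := (baseHom f (a τ)).toAlgebra
    tlen (T.presheaf.stalk τ) (((Scheme.Modules.pullback a).obj (Omega.sheaf f)).presheaf.stalk τ : Type u) =
      kdef R (Z.presheaf.stalk (a τ)) (T.presheaf.stalk τ) := by
  letI := (baseHom f (a τ)).toAlgebra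
  obtain ⟨⟨e⟩, -⟩ := nonempty_stalk_omega f (a τ)
  exact tlen_congr ((M2.pullStalkEquiv a τ (Omega.sheaf f)).symm.trans
    (AlgebraTensorModule.congr (LinearEquiv.refl _ _) e))

end Groth.Agent.NodeDefect14
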