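import Mathlib.Algebra.Module.Torsion.Basic
import Mathlib.RingTheory.LocalRing.Length
import Mathlib.RingTheory.OrderOfVanishing.Basic
import Mathlib.RingTheory.DiscreteValuationRing.Basic
import Mathlib.RingTheory.Flat.TorsionFree
import Mathlib.RingTheory.PrincipalIdealDomain
import Mathlib.LinearAlgebra.FreeModule.PID

/-!
# Lengths of torsion submodules over discrete valuation rings
-/

set_option autoImplicit false
set_option linter.style.haveILetI false
set_option backward.isDefEq.respectTransparency.types false

universe u v w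

open TensorProduct Module IsLocalRing

namespace Groth.Agent.NodeDefect14

/-- The length of the torsion submodule. -/
noncomputable def tlen (S : Type u) [CommRing S] (M : Type v) [AddCommGroup M] [Module S M] : ℕ∞ :=
  Module.length S (Submodule.torsion S M)

theorem tlen_congr {S : Type u} [CommRing S] {M : Type v} [AddCommGroup M] [Module S M] {N : Type w}
    [AddCommGroup N] [Module S N] (e : M ≃ₗ[S] N) : tlen S M = tlen S N := by
  refine ((Submodule.torsion S M).equivMapOfInjective (e : M →ₗ[S] N) e.injective).length_eq.trans ?_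
  refine (LinearEquiv.ofEq _ _ ?_).length_eq
  ext y
  rw [Submodule.mem_map, Submodule.mem_torsion_iff]
  constructor
  · rintro ⟨x, hx, rfl⟩
    obtain ⟨a, ha⟩ := (Submodule.mem_torsion_iff x).1 hx
    exact ⟨a, by show (a : S) • e x = 0; rw [← map_smul]; exact (congrArg e ha).trans (map_zero e)⟩
  · rintro ⟨a, ha⟩
    refine ⟨e.symm y, (Submodule.mem_torsion_iff _).2 ⟨a, ?_⟩, e.apply_symm_apply y⟩
    show (a : S) • e.symm y = 0
    rw [← map_smul]
    exact (congrArg e.symm ha).trans (map_zero e.symm)

/-- An unramified flat local extension of discrete valuation rings preserves torsion lengths. -/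
theorem tlen_baseChange (S : Type u) [CommRing S] [IsDomain S] [IsDiscreteValuationRing S] (S₁ : Type u) [CommRing S₁]
    [IsDomain S₁] [IsLocalRing S₁] [Algebra S S₁] [Module.Flat S S₁] [IsLocalHom (algebraMap S S₁)]
    (hmax : (maximalIdeal S).map (algebraMap S S₁) = maximalIdeal S₁)
    (M : Type v) [AddCommGroup M] [Module S M] [Module.Finite S M] :
    tlen S₁ (S₁ ⊗[S] M) = tlen S M := by
  haveI : Module.FaithfullyFlat S S₁ := Module.FaithfullyFlat.of_flat_of_isLocalHom
  have hinj : Function.Injective (algebraMap S S₁) := FaithfulSMul.algebraMap_injective S S₁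
  let T := Submodule.torsion S M
  let Q := M ⧸ T
  haveI : Module.Free S Q := inferInstance
  let j : S₁ ⊗[S] T →ₗ[S₁] S₁ ⊗[S] M := AlgebraTensorModule.lTensor S₁ S₁ T.subtype
  let q : S₁ ⊗[S] M →ₗ[S₁] S₁ ⊗[S] Q := AlgebraTensorModule.lTensor S₁ S₁ T.mkQ
  have hex : Function.Exact j q :=
    lTensor_exact S₁ (LinearMap.exact_subtype_mkQ T) T.mkQ_surjective
  have hj : Function.Injective j :=
    Module.Flat.lTensor_preserves_injective_linearMap T.subtype T.injective_subtype
  have hrange : LinearMap.range j = Submodule.torsion S₁ (S₁ ⊗[S] M) := by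
    refine le_antisymm ?_ fun x hx => ?_
    · rintro _ ⟨z, rfl⟩
      induction z using TensorProduct.induction_on with
      | zero => rw [map_zero]; exact zero_mem _
      | tmul s t =>
        obtain ⟨a, ha⟩ := (Submodule.mem_torsion_iff (t : M)).1 t.2
        refine (Submodule.mem_torsion_iff _).2 ⟨⟨algebraMap S S₁ a, mem_nonZeroDivisors_of_ne_zero
          ((map_ne_zero_iff _ hinj).2 (nonZeroDivisors.coe_ne_zero a))⟩, ?_⟩
        show algebraMap S S₁ (a : S) • (s ⊗ₜ[S] (t : M)) = 0
        rw [algebraMap_smul, ← tmul_smul, show (a : S) • (t : M) = 0 from ha, tmul_zero]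
      | add a b ha hb => rw [map_add]; exact add_mem ha hb
    · obtain ⟨a, ha⟩ := (Submodule.mem_torsion_iff x).1 hx
      haveI : Module.Free S₁ (S₁ ⊗[S] Q) := inferInstance
      refine (hex x).1 ((smul_eq_zero.1 ?_).resolve_left (nonZeroDivisors.coe_ne_zero a))
      rw [← map_smul]
      exact (congrArg q ha).trans (map_zero q)
  rw [tlen, ← hrange, ← (LinearEquiv.ofInjective j hj).length_eq, IsLocalRing.length_baseChange S S₁ T, hmax]
  have h1 : Module.length S₁ (S₁ ⧸ maximalIdeal S₁) = 1 := by
    rw [Module.length_eq_one_iff, isSimpleModule_iff_isCoatom]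
    exact Ideal.isMaximal_def.1 (maximalIdeal.isMaximal S₁)
  rw [h1, mul_one]
  rfl

/-- The content of a vector: the length of the cokernel of the ideal of its entries, zero for the zero vector. -/
noncomputable def content {S : Type u} [CommRing S] {ι : Type*} (v : ι → S) : ℕ∞ := by
  classical exact if v = 0 then 0 else Module.length S (S ⧸ Ideal.span (Set.range v))

theorem content_zero {S : Type u} [CommRing S] {ι : Type*} : content (0 : ι → S) = 0 := if_pos rfl

theorem content_of_span {S : Type u} [CommRing S] {ι : Type*} {v : ι → S} (hv : v ≠ 0) {d : S}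
    (hd : Ideal.span (Set.range v) = Ideal.span {d}) : content v = Ring.ord S d := by
  rw [content, if_neg hv, hd]
  rfl

theorem content_swap {S : Type u} [CommRing S] (a b : S) : content ![a, b] = content ![b, a] := by
  by_cases h : (![a, b] : Fin 2 → S) = 0
  · have ha := congrFun h 0
    have hb := congrFun h 1
    simp only [Matrix.cons_val_zero, Matrix.cons_val_one, Pi.zero_apply] at ha hb
    rw [h, show (![b, a] : Fin 2 → S) = 0 by rw [ha, hb]; funext i; fin_cases i <;> rfl]
  · have h' : (![b, a] : Fin 2 → S) ≠ 0 := fun e => h (by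
      have ha := congrFun e 1
      have hb := congrFun e 0
      simp only [Matrix.cons_val_zero, Matrix.cons_val_one, Pi.zero_apply] at ha hb
      rw [ha, hb]; funext i; fin_cases i <;> rfl)
    rw [content, if_neg h, content, if_neg h']
    rw [show Set.range (![b, a] : Fin 2 → S) = Set.range ![a, b] by ext x; simp [Fin.exists_fin_two, or_comm]]

/-- Scaling a vector. -/
theorem content_smul {S : Type u} [CommRing S] [IsDomain S] [IsPrincipalIdealRing S] {ι : Type*} {v : ι → S}
    (hv : v ≠ 0) {a : S} (ha : a ≠ 0) : content (a • v) = Ring.ord S a + content v := by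
  obtain ⟨d, hd⟩ := IsPrincipalIdealRing.principal (Ideal.span (Set.range v))
  have hd' : Ideal.span (Set.range v) = Ideal.span {d} := hd
  have hd0 : d ≠ 0 := fun e => hv (funext fun i => by
    have : v i ∈ Ideal.span {d} := hd' ▸ Ideal.subset_span ⟨i, rfl⟩
    rw [e, Ideal.mem_span_singleton] at this
    exact zero_dvd_iff.1 this)
  have hsp : Ideal.span (Set.range (a • v)) = Ideal.span {a * d} := by
    rw [show Set.range (a • v) = (fun x => a * x) '' Set.range v by
      rw [← Set.range_comp]; rfl]
    rw [← Ideal.span_singleton_mul_span_singleton, ← hd', Ideal.span_mul_span']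
    rw [Set.singleton_mul]
  rw [content_of_span (smul_ne_zero ha hv) hsp, content_of_span hv hd',
    Ring.ord_mul S (mem_nonZeroDivisors_of_ne_zero hd0)]

/-- The torsion of a free module modulo one vector. -/
theorem tlen_quotient_vector {S : Type u} [CommRing S] [IsDomain S] [IsDiscreteValuationRing S] {ι : Type} [Fintype ι]
    (v : ι → S) : tlen S ((ι → S) ⧸ Submodule.span S {v}) = content v := by
  classical
  by_cases hv : v = 0
  · subst hv
    rw [content_zero, tlen]
    haveI : Subsingleton (Submodule.torsion S ((ι → S) ⧸ Submodule.span S {(0 : ι → S)})) := by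
      refine ⟨fun x y => ?_⟩
      suffices h : ∀ z : Submodule.torsion S ((ι → S) ⧸ Submodule.span S {(0 : ι → S)}), z = 0 from
        (h x).trans (h y).symm
      rintro ⟨z, hz⟩
      obtain ⟨w, rfl⟩ := Submodule.Quotient.mk_surjective _ z
      obtain ⟨c, hc⟩ := (Submodule.mem_torsion_iff _).1 hz
      have hc' : (c : S) • w = 0 := by
        have h1 := (Submodule.Quotient.mk_eq_zero _).1 (show Submodule.Quotient.mk ((c : S) • w) = 0 from hc)
        rwa [Submodule.span_zero_singleton, Submodule.mem_bot] at h1
      have : w = 0 := (smul_eq_zero.1 hc').resolve_left (nonZeroDivisors.coe_ne_zero c)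
      exact Subtype.ext ((congrArg Submodule.Quotient.mk this).trans rfl)
    exact Module.length_eq_zero
  obtain ⟨d, hd⟩ := IsPrincipalIdealRing.principal (Ideal.span (Set.range v))
  have hd' : Ideal.span (Set.range v) = Ideal.span {d} := hd
  have hvd : ∀ i, ∃ x, x * d = v i := fun i =>
    Ideal.mem_span_singleton'.1 (hd' ▸ Ideal.subset_span ⟨i, rfl⟩)
  choose v₀ hv₀ using hvd
  have hveq : v = d • v₀ := funext fun i => (hv₀ i).symm.trans (mul_comm _ _)
  have hd0 : d ≠ 0 := fun e => hv (by rw [hveq, e, zero_smul])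
  -- a unit coordinate
  obtain ⟨j, hj⟩ : ∃ j, IsUnit (v₀ j) := by
    by_contra hne
    push Not at hne
    have hle : Ideal.span (Set.range v) ≤ Ideal.span {d} * maximalIdeal S := Ideal.span_le.2 (by
      rintro _ ⟨i, rfl⟩
      show v i ∈ Ideal.span {d} * maximalIdeal S
      rw [← hv₀ i, mul_comm (v₀ i) d]
      exact Ideal.mul_mem_mul (Ideal.mem_span_singleton_self d) ((mem_maximalIdeal _).2 (hne i)))
    obtain ⟨z, hz, hzd⟩ := Ideal.mem_span_singleton_mul.1 (hle (hd' ▸ Ideal.mem_span_singleton_self d))
    have : z = 1 := mul_left_cancel₀ hd0 (hzd.trans (mul_one d).symm)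
    exact (maximalIdeal.isMaximal S).ne_top ((Ideal.eq_top_iff_one _).2 (this ▸ hz))
  let L : S →ₗ[S] (ι → S) ⧸ Submodule.span S {v} :=
    (Submodule.mkQ _).comp (LinearMap.toSpanSingleton S (ι → S) v₀)
  have hrange : LinearMap.range L = Submodule.torsion S ((ι → S) ⧸ Submodule.span S {v}) := by
    refine le_antisymm ?_ fun z hz => ?_
    · rintro _ ⟨s, rfl⟩
      refine (Submodule.mem_torsion_iff _).2 ⟨⟨d, mem_nonZeroDivisors_of_ne_zero hd0⟩, ?_⟩
      show d • Submodule.Quotient.mk (s • v₀) = (0 : (ι → S) ⧸ Submodule.span S {v})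
      rw [← Submodule.Quotient.mk_smul, Submodule.Quotient.mk_eq_zero, smul_comm, ← hveq]
      exact Submodule.smul_mem _ _ (Submodule.mem_span_singleton_self v)
    · obtain ⟨w, rfl⟩ := Submodule.Quotient.mk_surjective _ z
      obtain ⟨c, hc⟩ := (Submodule.mem_torsion_iff _).1 hz
      obtain ⟨e, he⟩ := Submodule.mem_span_singleton.1
        ((Submodule.Quotient.mk_eq_zero _).1 (show Submodule.Quotient.mk ((c : S) • w) = 0 from hc))
      refine ⟨w j * ↑hj.unit⁻¹, ?_⟩
      show Submodule.Quotient.mk ((w j * ↑hj.unit⁻¹) • v₀) = (Submodule.Quotient.mk w : (ι → S) ⧸ Submodule.span S {v})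
      refine congrArg _ (funext fun i => mul_left_cancel₀ (nonZeroDivisors.coe_ne_zero c) ?_)
      have hi : e * (d * v₀ i) = (c : S) * w i := by
        have h1 := congrFun he i
        rwa [hveq] at h1
      have hjj : e * (d * v₀ j) = (c : S) * w j := by
        have h1 := congrFun he j
        rwa [hveq] at h1
      show (c : S) * (w j * ↑hj.unit⁻¹ * v₀ i) = (c : S) * w i
      have h2 : v₀ j * ↑hj.unit⁻¹ = 1 := hj.mul_val_inv
      linear_combination hi - ↑hj.unit⁻¹ * v₀ i * hjj + e * d * v₀ i * h2
  have hker : LinearMap.ker L = Ideal.span {d} := by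
    ext s
    show Submodule.Quotient.mk (s • v₀) = (0 : (ι → S) ⧸ Submodule.span S {v}) ↔ _
    rw [Submodule.Quotient.mk_eq_zero, Submodule.mem_span_singleton, Ideal.mem_span_singleton']
    refine exists_congr fun e => ⟨fun h => ?_, fun h => ?_⟩
    · have h1 := congrFun h j
      rw [hveq] at h1
      exact hj.mul_right_cancel ((mul_assoc e d (v₀ j)).trans h1)
    · rw [← h, mul_smul, hveq]
  rw [tlen, ← hrange, ← L.quotKerEquivRange.length_eq, hker, content_of_span hv hd']
  rfl

/-- The order of an element whose ideal is a power of the maximal ideal. -/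
theorem ord_pow_irreducible {S : Type u} [CommRing S] [IsDomain S] [IsDiscreteValuationRing S] {p : S}
    (hp : Irreducible p) (n : ℕ) : Ring.ord S (p ^ n) = n := by
  induction n with
  | zero => simp
  | succ n ih =>
    rw [pow_succ, Ring.ord_mul S (mem_nonZeroDivisors_of_ne_zero hp.ne_zero), ih]
    have h1 : Ring.ord S p = 1 := by
      rw [Ring.ord, Module.length_eq_one_iff, isSimpleModule_iff_isCoatom, ← hp.maximalIdeal_eq]
      exact Ideal.isMaximal_def.1 (maximalIdeal.isMaximal S)
    rw [h1, Nat.cast_add, Nat.cast_one]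

end Groth.Agent.NodeDefect14
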